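import Mathlib.RingTheory.GradedAlgebra.Homogeneous.Ideal
import Mathlib.RingTheory.Nakayama
import Mathlib.Algebra.Module.Torsion.Basic
import Mathlib.LinearAlgebra.Matrix.ToLin
import Mathlib.Algebra.Module.Projective
import Mathlib.Algebra.Module.GradedModule
import Mathlib.LinearAlgebra.Determinant
import Mathlib.LinearAlgebra.Matrix.Charpoly.LinearMap
import Mathlib.LinearAlgebra.LinearIndependent.Lemmas
import Mathlib.RingTheory.MvPolynomial.WeightedHomogeneous

/-!
# A homogeneous element at which a graded projective module gets a homogeneous basis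
-/

open DirectSum

namespace Groth.Agent.GradedBasisPrime

universe u v w x

variable {k : Type u} [CommRing k] {M : Type v} [AddCommGroup M] [DecidableEq M]
  {A : Type w} [CommRing A] [Algebra k A] (𝒜 : M → Submodule k A) [GradedAlgebra 𝒜]
  {P : Type x} [AddCommGroup P] [Module A P] [Module k P] [IsScalarTower k A P]
  (ℳ : M → Submodule k P) [Decomposition ℳ] [SetLike.GradedSMul 𝒜 ℳ]

theorem comp_smul (a : A) {p : P} {i j : M} (hp : p ∈ ℳ j) :
    (decompose ℳ (a • p) (i + j) : P) = (decompose 𝒜 a i : A) • p := by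
  classical
  induction a using DirectSum.Decomposition.inductionOn 𝒜 with
  | zero => simp
  | @homogeneous l a =>
    have h : (a : A) • p ∈ ℳ (l + j) := SetLike.GradedSMul.smul_mem a.2 hp
    by_cases hl : l = i
    · subst hl
      rw [decompose_of_mem_same ℳ h, decompose_of_mem_same 𝒜 a.2]
    · rw [decompose_of_mem_ne ℳ h (fun e => hl (add_right_cancel e)), decompose_of_mem_ne 𝒜 a.2 hl, zero_smul]
  | add x y hx hy =>
    rw [add_smul, decompose_add, decompose_add, DirectSum.add_apply, DirectSum.add_apply,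
      Submodule.coe_add, Submodule.coe_add, add_smul, hx, hy]

theorem smul_comp {a : A} (p : P) {i j : M} (ha : a ∈ 𝒜 i) :
    (decompose ℳ (a • p) (i + j) : P) = a • (decompose ℳ p j : P) := by
  classical
  induction p using DirectSum.Decomposition.inductionOn ℳ with
  | zero => simp
  | @homogeneous l q =>
    have h : a • (q : P) ∈ ℳ (i + l) := SetLike.GradedSMul.smul_mem ha q.2
    by_cases hl : l = j
    · subst hl
      rw [decompose_of_mem_same ℳ h, decompose_of_mem_same ℳ q.2]
    · rw [decompose_of_mem_ne ℳ h (fun e => hl (add_left_cancel e)), decompose_of_mem_ne ℳ q.2 hl, smul_zero]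
  | add x y hx hy =>
    rw [smul_add, decompose_add, decompose_add, DirectSum.add_apply, DirectSum.add_apply,
      Submodule.coe_add, Submodule.coe_add, smul_add, hx, hy]

theorem exists_comp_notMem {m : Ideal A} {r : A} (hr : r ∉ m) : ∃ i, (decompose 𝒜 r i : A) ∉ m := by
  classical
  by_contra h
  push Not at h
  exact hr (by rw [← sum_support_decompose 𝒜 r]; exact Submodule.sum_mem _ fun i _ => h i)

theorem exists_basis_away [Module.Finite A P] [Module.Projective A P] (m : Ideal A) [m.IsPrime]
    {n : ℕ} (wt : Fin n → M) (f : Fin n → P) (hf : ∀ i, f i ∈ ℳ (wt i))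
    (hli : LinearIndependent (A ⧸ m) (fun i => (Submodule.Quotient.mk (f i) : P ⧸ (m • (⊤ : Submodule A P)))))
    (t : A) (ht : t ∉ m) (hsp : ∀ p, t • p ∈ Submodule.span A (Set.range f) ⊔ m • (⊤ : Submodule A P)) :
    ∃ s : A, SetLike.IsHomogeneousElem 𝒜 s ∧ s ∉ m ∧
      (∀ p : P, ∃ (N : ℕ) (c : Fin n → A), s ^ N • p = ∑ i, c i • f i) ∧
      (∀ c : Fin n → A, ∑ i, c i • f i = 0 → ∃ N : ℕ, ∀ i, s ^ N * c i = 0) := by
  classical
  let g : (Fin n → A) →ₗ[A] P := Fintype.linearCombination A f
  let S := Submodule.span A (Set.range f)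
  have hg : ∀ c, g c = ∑ i, c i • f i := fun c => Fintype.linearCombination_apply A f c
  have hrange : LinearMap.range g = S := Fintype.range_linearCombination A f
  let Φ : Module.End A (P ⧸ S) := t • LinearMap.id
  obtain ⟨q, hqm, -, hqc, hq0⟩ := LinearMap.exists_monic_and_natDegree_eq_and_coeff_mem_pow_and_aeval_eq_zero A Φ m (by
    rintro _ ⟨x, rfl⟩
    obtain ⟨p, rfl⟩ := Submodule.mkQ_surjective S x
    obtain ⟨a, ha, b, hb, hab⟩ := Submodule.mem_sup.1 (hsp p)
    show t • S.mkQ p ∈ _
    rw [← map_smul, ← hab, map_add, (show S.mkQ a = 0 from (Submodule.Quotient.mk_eq_zero S).2 ha), zero_add]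
    have := Submodule.mem_map_of_mem (f := S.mkQ) hb
    rw [Submodule.map_smul'', Submodule.map_top, Submodule.range_mkQ] at this
    exact this)
  let r : A := q.eval t
  have hrm : r ∉ m := fun h => ht (Ideal.IsPrime.mem_of_pow_mem ‹_› q.natDegree (by
    have hsum : r = ∑ i ∈ Finset.range q.natDegree, q.coeff i * t ^ i + t ^ q.natDegree := by
      show q.eval t = _
      rw [Polynomial.eval_eq_sum_range, Finset.sum_range_succ, hqm.coeff_natDegree, one_mul]
    rw [hsum] at h
    refine (Submodule.add_mem_iff_right m (Submodule.sum_mem _ fun i hi => Ideal.mul_mem_right _ _ ?_)).1 h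
    exact Ideal.pow_le_self (by have := Finset.mem_range.1 hi; omega) (hqc i)))
  have hrS : ∀ p, r • p ∈ S := fun p => (Submodule.Quotient.mk_eq_zero S).1 (by
    have h := LinearMap.congr_fun hq0 (Submodule.Quotient.mk p)
    rw [show Φ = algebraMap A (Module.End A (P ⧸ S)) t from rfl, Polynomial.aeval_algebraMap_apply_eq_algebraMap_eval] at h
    rw [Submodule.Quotient.mk_smul]
    simpa [r] using h)
  obtain ⟨d, hd⟩ := exists_comp_notMem 𝒜 hrm
  let r₀ : A := (decompose 𝒜 r d : A)
  have hS : ∀ q ∈ S, ∀ l : M, (decompose ℳ q l : P) ∈ S := by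
    intro q hq l
    obtain ⟨c, rfl⟩ := (Submodule.mem_span_range_iff_exists_fun A).1 hq
    rw [decompose_sum, DFinsupp.finsetSum_apply, AddSubmonoidClass.coe_finsetSum]
    refine Submodule.sum_mem _ fun i _ => ?_
    have h := comp_smul 𝒜 ℳ (c i) (i := l - wt i) (hf i)
    rw [sub_add_cancel] at h
    rw [h]
    exact Submodule.smul_mem _ _ (Submodule.subset_span ⟨i, rfl⟩)
  have hr₀S : ∀ p, r₀ • p ∈ S := fun p => by
    rw [← sum_support_decompose ℳ p, Finset.smul_sum]
    refine Submodule.sum_mem _ fun j _ => ?_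
    have h := comp_smul 𝒜 ℳ r (i := d) (decompose ℳ p j).2
    exact h ▸ hS _ (hrS _) _
  obtain ⟨h, hh⟩ := Module.projective_lifting_property g.rangeRestrict
    ((r • LinearMap.id : P →ₗ[A] P).codRestrict (LinearMap.range g) fun p => hrange.ge (hrS p))
    g.surjective_rangeRestrict
  have hgh : ∀ p, g (h p) = r • p := fun p => congrArg Subtype.val (LinearMap.congr_fun hh p)
  let T : (Fin n → A) →ₗ[A] (Fin n → A) := h.comp g
  let Mx := LinearMap.toMatrix' T
  have hmod : ∀ i j, Mx i j - (if i = j then r else 0) ∈ m := by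
    intro i j
    have h0 : ∑ l, (Mx l j - if l = j then r else 0) • f l = 0 := by
      have := hgh (g (Pi.single j 1))
      rw [hg (h _)] at this
      simp only [sub_smul, Finset.sum_sub_distrib, ite_smul, zero_smul, Finset.sum_ite_eq', Finset.mem_univ, if_true,
        Mx, LinearMap.toMatrix'_apply, T, LinearMap.comp_apply]
      rw [this]
      simp [g]
    have hli' := Fintype.linearIndependent_iff.1 hli (fun l => Ideal.Quotient.mk m (Mx l j - if l = j then r else 0)) (by
      have := congrArg (Submodule.mkQ (m • (⊤ : Submodule A P))) h0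
      rw [map_sum, map_zero] at this
      refine Eq.trans (Finset.sum_congr rfl fun l _ => ?_) this
      rfl)
    exact Ideal.Quotient.eq_zero_iff_mem.1 (hli' i)
  have hD : Mx.det ∉ m := fun hDm => hrm (Ideal.IsPrime.mem_of_pow_mem ‹m.IsPrime› n (by
    rw [← Ideal.Quotient.eq_zero_iff_mem] at hDm ⊢
    rw [RingHom.map_det] at hDm
    have hM' : (Ideal.Quotient.mk m).mapMatrix Mx = Matrix.diagonal (fun _ => Ideal.Quotient.mk m r) := by
      ext i j
      have := Ideal.Quotient.eq_zero_iff_mem.2 (hmod i j)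
      rw [map_sub, sub_eq_zero] at this
      simp [Matrix.diagonal, this, apply_ite (Ideal.Quotient.mk m)]
    rw [hM', Matrix.det_diagonal, Finset.prod_const, Finset.card_univ, Fintype.card_fin] at hDm
    rw [map_pow]; exact hDm))
  obtain ⟨e, he⟩ := exists_comp_notMem 𝒜 hD
  let D₀ : A := (decompose 𝒜 Mx.det e : A)
  have hkill : ∀ c, g c = 0 → ∀ i, Mx.det * c i = 0 := fun c hc i => by
    have h1 : Mx.mulVec c = 0 := by
      rw [LinearMap.toMatrix'_mulVec]
      simp [T, hc]
    have h2 := congrArg Mx.adjugate.mulVec h1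
    rw [Matrix.mulVec_mulVec, Matrix.adjugate_mul, Matrix.smul_mulVec, Matrix.one_mulVec, Matrix.mulVec_zero] at h2
    exact congrFun h2 i
  refine ⟨r₀ * D₀, ⟨d + e, SetLike.mul_mem_graded (decompose 𝒜 r d).2 (decompose 𝒜 Mx.det e).2⟩,
    fun hh => ((‹m.IsPrime›).mem_or_mem hh).elim hd he, fun p => ?_, fun c hc => ⟨1, fun i => ?_⟩⟩
  · obtain ⟨c, hc⟩ := (Submodule.mem_span_range_iff_exists_fun A).1 (hr₀S (D₀ • p))
    exact ⟨1, c, by rw [pow_one, mul_smul, hc]⟩
  · rw [pow_one, mul_assoc, ← sum_support_decompose 𝒜 (c i)]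
    refine mul_eq_zero_of_right _ ?_
    rw [Finset.mul_sum]
    refine Finset.sum_eq_zero fun l _ => ?_
    have hcomp : g (fun j => (decompose 𝒜 (c j) (l + wt i - wt j) : A)) = 0 := by
      rw [hg]
      have := congrArg (fun q => (decompose ℳ q (l + wt i) : P)) hc
      rw [decompose_sum, decompose_zero] at this
      have this : ∑ j, ((decompose ℳ (c j • f j)) (l + wt i) : P) = 0 := by
        rw [← AddSubmonoidClass.coe_finsetSum, ← DFinsupp.finsetSum_apply]
        exact this
      refine Eq.trans (Finset.sum_congr rfl fun j _ => ?_) this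
      have h := comp_smul 𝒜 ℳ (c j) (i := l + wt i - wt j) (hf j)
      rw [sub_add_cancel] at h
      exact h.symm
    have hz := hkill _ hcomp i
    rw [add_sub_cancel_right] at hz
    have h2 := DirectSum.coe_decompose_mul_add_of_right_mem 𝒜 (a := Mx.det) (i := e) (decompose 𝒜 (c i) l).2
    rw [hz] at h2
    simpa using h2.symm

include 𝒜 in
theorem exists_family [Module.Finite A P] (m : Ideal A) [m.IsPrime] :
    ∃ (n : ℕ) (wt : Fin n → M) (f : Fin n → P), (∀ i, f i ∈ ℳ (wt i)) ∧
      LinearIndependent (A ⧸ m) (fun i => (Submodule.Quotient.mk (f i) : P ⧸ (m • (⊤ : Submodule A P)))) ∧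
      ∃ t ∉ m, ∀ p, t • p ∈ Submodule.span A (Set.range f) ⊔ m • (⊤ : Submodule A P) := by
  classical
  obtain ⟨gs, hgs⟩ := Module.Finite.fg_top (R := A) (M := P)
  let ι := Σ p : gs, {j // j ∈ (decompose ℳ (p : P)).support}
  let v : ι → P := fun x => (decompose ℳ (x.1 : P) x.2.1 : P)
  let π : P → P ⧸ (m • (⊤ : Submodule A P)) := Submodule.Quotient.mk
  obtain ⟨I, hI, hmax⟩ := exists_maximal_linearIndepOn (A ⧸ m) (π ∘ v)
  let e := (Fintype.equivFin I).symm
  let f : Fin (Fintype.card I) → P := fun i => v (e i).1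
  let T := Submodule.span A (Set.range f) ⊔ m • (⊤ : Submodule A P)
  have key : ∀ x : ι, ∃ a : A, a ∉ m ∧ a • v x ∈ T := fun x => by
    by_cases hx : x ∈ I
    · exact ⟨1, (Ideal.ne_top_iff_one m).1 (Ideal.IsPrime.ne_top ‹_›), by
        rw [one_smul]
        exact Submodule.mem_sup_left (Submodule.subset_span ⟨e.symm ⟨x, hx⟩, by simp [f]⟩)⟩
    · obtain ⟨a, ha, hm⟩ := hmax x hx
      obtain ⟨a, rfl⟩ := Ideal.Quotient.mk_surjective a
      refine ⟨a, fun h => ha (Ideal.Quotient.eq_zero_iff_mem.2 h), ?_⟩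
      let Sm : Submodule (A ⧸ m) (P ⧸ (m • (⊤ : Submodule A P))) :=
          { carrier := Submodule.map (Submodule.mkQ (m • (⊤ : Submodule A P))) (Submodule.span A (Set.range f))
            add_mem' := fun ha hb => add_mem ha hb
            zero_mem' := zero_mem (Submodule.map (Submodule.mkQ (m • (⊤ : Submodule A P))) (Submodule.span A (Set.range f)))
            smul_mem' := fun c z hz => by
              obtain ⟨c, rfl⟩ := Ideal.Quotient.mk_surjective c
              exact Submodule.smul_mem (Submodule.map (Submodule.mkQ (m • (⊤ : Submodule A P))) (Submodule.span A (Set.range f))) c hz }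
      have hle : Submodule.span (A ⧸ m) ((π ∘ v) '' I) ≤ Sm := Submodule.span_le.2 (by
        rintro _ ⟨y, hy, rfl⟩
        exact ⟨v y, Submodule.subset_span ⟨e.symm ⟨y, hy⟩, by simp [f]⟩, rfl⟩)
      obtain ⟨z, hz, hz'⟩ := hle hm
      refine Submodule.mem_sup.2 ⟨z, hz, a • v x - z, (Submodule.Quotient.eq _).1 ?_, add_sub_cancel _ _⟩
      exact hz'.symm
  choose a ha haT using key
  refine ⟨_, fun i => (e i).1.2.1, f, fun i => (decompose ℳ ((e i).1.1 : P) _).2,
    (hI.comp e e.injective), ∏ x, a x, fun h => ?_, fun p => ?_⟩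
  · obtain ⟨x, -, hx⟩ := (‹m.IsPrime›.prod_mem_iff).1 h
    exact ha x hx
  · have hp : p ∈ Submodule.span A (gs : Set P) := hgs.ge trivial
    induction hp using Submodule.span_induction with
    | mem q hq =>
      rw [← sum_support_decompose ℳ q, Finset.smul_sum]
      refine Submodule.sum_mem _ fun j hj => ?_
      let x : ι := ⟨⟨q, hq⟩, ⟨j, hj⟩⟩
      obtain ⟨b, hb⟩ := Finset.dvd_prod_of_mem a (Finset.mem_univ x)
      rw [hb, mul_comm, mul_smul]
      exact Submodule.smul_mem _ b (haT x)
    | zero => rw [smul_zero]; exact zero_mem _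
    | add y z _ _ hy hz => rw [smul_add]; exact add_mem hy hz
    | smul c y _ hy => rw [smul_comm]; exact Submodule.smul_mem _ c hy

end Groth.Agent.GradedBasisPrime
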